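import Cfsg.Agent.Lib.Fusion.AltMain

/-!
The alternating group of degree eleven on five pairs and a point: the two kinds of involutions, a
Sylow 2-subgroup generated by involutions moving eight points, and its normaliser.
-/

set_option autoImplicit false
set_option maxRecDepth 10000

namespace Cfsg.Agent.Lib.LyFusion62

open Equiv Cfsg.Agent.Lib.Fusion.AltBlocks

/-- five pairs and a point -/
abbrev P11 := Pts (Fin 5) 2 (Fin 1)

/-- the alternating group of degree eleven -/
abbrev A11 := alternatingGroup P11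

/-- the number of points moved -/
def mv (x : A11) : ℕ := (x : Perm P11).support.card

theorem card_A11 : Nat.card A11 = 19958400 := by
  haveI : Nontrivial P11 := ⟨Sum.inr 0, Sum.inl (0, 0), by simp⟩
  have h := two_mul_nat_card_alternatingGroup (α := P11)
  rw [Nat.card_perm, show Nat.card P11 = 11 by rw [Nat.card_eq_fintype_card]; rfl] at h
  rw [show Nat.factorial 11 = 39916800 from rfl] at h
  show Nat.card ↥(alternatingGroup P11) = 19958400
  omega

theorem mv_involution {x : A11} (h2 : x * x = 1) (hne : x ≠ 1) : mv x = 4 ∨ mv x = 8 := by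
  have hx : (x : Perm P11) ^ 2 = 1 := by rw [pow_two]; exact congrArg Subtype.val h2
  have hct := Perm.cycleType_of_pow_prime_eq_one (p := 2) hx
  have hs := (x : Perm P11).sum_cycleType
  rw [hct, Multiset.sum_replicate, smul_eq_mul] at hs
  have hsign : Perm.sign (x : Perm P11) = 1 := Perm.mem_alternatingGroup.1 x.2
  rw [Perm.sign_of_cycleType, hct, Multiset.sum_replicate, Multiset.card_replicate, smul_eq_mul]
    at hsign
  have hle : (x : Perm P11).support.card ≤ 11 := (Finset.card_le_univ _).trans (le_of_eq rfl)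
  have h0 : (x : Perm P11).support.card ≠ 0 := fun h => hne (Subtype.ext
    (Perm.support_eq_empty_iff.1 (Finset.card_eq_zero.1 h)))
  set k := Multiset.card (x : Perm P11).cycleType with hk
  have hev : Even k := by
    by_contra hc
    rw [Nat.not_even_iff_odd] at hc
    have ho : Odd (k * 2 + k) := (even_two.mul_left k).add_odd hc
    rw [ho.neg_one_pow] at hsign
    exact absurd hsign (by decide)
  obtain ⟨j, hj⟩ := hev
  show (x : Perm P11).support.card = 4 ∨ (x : Perm P11).support.card = 8
  omega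

theorem conj_of_mv {x y : A11} (hx : x * x = 1) (hy : y * y = 1) (h : mv x = mv y) (h8 : mv x ≤ 8) :
    IsConj x y := by
  refine alternatingGroup.isConj_of (isConj_of_pow_prime (p := 2) ?_ ?_ h) ?_
  · rw [pow_two]; exact congrArg Subtype.val hx
  · rw [pow_two]; exact congrArg Subtype.val hy
  · show mv x + 2 ≤ 11
    omega

theorem mv_conj (g x : A11) : mv (g * x * g⁻¹) = mv x := by
  show ((g : Perm P11) * x * (g : Perm P11)⁻¹).support.card = _
  rw [Perm.support_conj, Finset.card_map]
  rfl

/-- a translation by an even vector -/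
def trA (t : Fin 5 → ZMod 2) (h : Perm.sign (tr t : Perm P11) = 1) : A11 :=
  ⟨tr t, Perm.mem_alternatingGroup.2 h⟩

theorem involution_products : ∀ q : Perm (Fin 5), q * q = 1 → q ≠ 1 →
    ∃ t : Fin 5 → ZMod 2, (tr t : Perm P11).support.card % 4 = 0 ∧
      (tr t * la q : Perm P11) * (tr t * la q) = 1 ∧
      (tr t * la q : Perm P11).support.card = 8 := by
  decide +kernel

theorem even_translations : ∀ t : Fin 5 → ZMod 2, Perm.sign (tr t : Perm P11) = 1 →
    t = 0 ∨ (Finset.univ.filter fun i => t i ≠ 0).card = 4 ∨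
      ∃ a b : Fin 5 → ZMod 2, (Finset.univ.filter fun i => a i ≠ 0).card = 4 ∧
        (Finset.univ.filter fun i => b i ≠ 0).card = 4 ∧ t = a + b := by
  decide +kernel

theorem eq_one_of_fixes_even : ∀ q : Perm (Fin 5), (∀ t : Fin 5 → ZMod 2,
    (Finset.univ.filter fun i => t i ≠ 0).card = 4 → ∀ i, t (q⁻¹ i) = t i) → q = 1 := by
  decide +kernel

theorem central_partner : ∀ t : Fin 5 → ZMod 2, (Finset.univ.filter fun i => t i ≠ 0).card = 4 →
    ∃ e : Fin 5 → ZMod 2, (Finset.univ.filter fun i => e i ≠ 0).card = 2 ∧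
      (Finset.univ.filter fun i => (e + t) i ≠ 0).card = 4 := by
  decide +kernel

theorem sign_tr_even (t : Fin 5 → ZMod 2) (h : (Finset.univ.filter fun i => t i ≠ 0).card % 2 = 0) :
    Perm.sign (tr t : Perm P11) = 1 := by
  revert h; revert t
  decide +kernel

theorem mv_trA (t : Fin 5 → ZMod 2) (h : Perm.sign (tr t : Perm P11) = 1) :
    mv (trA t h) = (Finset.univ.filter fun i => t i ≠ 0).card * 2 := card_support_tr t

theorem trA_sq (t : Fin 5 → ZMod 2) (h : Perm.sign (tr t : Perm P11) = 1) :
    trA t h * trA t h = 1 :=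
  Subtype.ext (by show (tr t * tr t : Perm P11) = 1; rw [← pow_two]; exact tr_pow_prime t)

/-- each involution moving eight points commutes with one moving four, with product moving eight -/
theorem exists_partner {c : A11} (hc : c * c = 1) (h8 : mv c = 8) :
    ∃ e : A11, e * e = 1 ∧ mv e = 4 ∧ c * e = e * c ∧ mv (c * e) = 8 := by
  let t : Fin 5 → ZMod 2 := ![1, 1, 1, 1, 0]
  obtain ⟨e, he2, he4⟩ := central_partner t (by decide)
  have ht : Perm.sign (tr t : Perm P11) = 1 := sign_tr_even t (by decide)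
  have hes : Perm.sign (tr e : Perm P11) = 1 := sign_tr_even e (by rw [he2])
  obtain ⟨g, hg⟩ := isConj_iff.1 (conj_of_mv (trA_sq t ht) hc
    (by rw [mv_trA, h8]; decide) (by rw [mv_trA]; decide))
  refine ⟨g * trA e hes * g⁻¹, ?_, ?_, ?_, ?_⟩
  · calc g * trA e hes * g⁻¹ * (g * trA e hes * g⁻¹)
        = g * (trA e hes * trA e hes) * g⁻¹ := by group
      _ = 1 := by rw [trA_sq]; group
  · rw [mv_conj, mv_trA, he2]
  · have hcm : trA t ht * trA e hes = trA e hes * trA t ht :=
      Subtype.ext (by show (tr t * tr e : Perm P11) = tr e * tr t; rw [tr_mul, tr_mul, add_comm])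
    rw [← hg]
    calc g * trA t ht * g⁻¹ * (g * trA e hes * g⁻¹)
        = g * (trA t ht * trA e hes) * g⁻¹ := by group
      _ = _ := by rw [hcm]; group
  · rw [← hg, show g * trA t ht * g⁻¹ * (g * trA e hes * g⁻¹) =
      g * (trA t ht * trA e hes) * g⁻¹ by group, mv_conj]
    show ((tr t * tr e : Perm P11)).support.card = 8
    rw [tr_mul, card_support_tr, he4]

variable (Q : Sylow 2 (Perm (Fin 5)))

/-- the Sylow subgroup -/
def U : Subgroup A11 := altSylow 2 (Fin 1) (Q : Subgroup (Perm (Fin 5)))

theorem mem_U {x : A11} : x ∈ U Q ↔ ∃ t, ∃ q ∈ (Q : Subgroup (Perm (Fin 5))),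
    (x : Perm P11) = tr t * la q := Iff.rfl

theorem trA_mem_U (t : Fin 5 → ZMod 2) (h : Perm.sign (tr t : Perm P11) = 1) : trA t h ∈ U Q :=
  tr_mem_blockSylow _ t

theorem card_U : Nat.card (U Q) = 128 := by
  haveI : Fact (Nat.Prime 2) := ⟨Nat.prime_two⟩
  have hU : IsPGroup 2 (U Q) :=
    (isPGroup_blockSylow Q.2).comap_of_injective (alternatingGroup _).subtype Subtype.val_injective
  have hUi : ¬ 2 ∣ (U Q).index := fun h =>
    not_dvd_index_blockSylow (by simp) Q (h.trans (relIndex_dvd_index_of_normal_right _ _))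
  obtain ⟨n, hn⟩ := IsPGroup.iff_card.1 hU
  have h := (U Q).card_mul_index
  rw [card_A11, hn] at h
  rw [hn]
  have hd : 2 ^ n ∣ 19958400 := ⟨_, h.symm⟩
  have h7 : n ≤ 7 := by
    by_contra hc
    have : 2 ^ 8 ∣ 19958400 := (pow_dvd_pow 2 (by omega)).trans hd
    norm_num at this
  rcases Nat.lt_or_ge n 7 with hlt | hge
  · exfalso
    apply hUi
    have e : 2 ^ n * (U Q).index = 2 ^ n * (2 ^ (7 - n) * 155925) := by
      rw [h, ← mul_assoc, ← pow_add, show n + (7 - n) = 7 by omega]
      norm_num
    rw [Nat.eq_of_mul_eq_mul_left (by positivity) e]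
    exact Dvd.dvd.mul_right (dvd_pow_self 2 (by omega)) _
  · rw [show n = 7 by omega]; norm_num

/-- the involutions moving eight points generate -/
theorem U_le_closure : U Q ≤ Subgroup.closure {x : A11 | x ∈ U Q ∧ x * x = 1 ∧ mv x = 8} := by
  haveI : Fact (Nat.Prime 2) := ⟨Nat.prime_two⟩
  set W := Subgroup.closure {x : A11 | x ∈ U Q ∧ x * x = 1 ∧ mv x = 8} with hW
  have h4 : ∀ t (h : Perm.sign (tr t : Perm P11) = 1),
      (Finset.univ.filter fun i => t i ≠ 0).card = 4 → trA t h ∈ W := fun t h hc =>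
    Subgroup.subset_closure ⟨trA_mem_U Q t h, trA_sq t h, by rw [mv_trA, hc]⟩
  have htr : ∀ t (h : Perm.sign (tr t : Perm P11) = 1), trA t h ∈ W := by
    intro t h
    rcases even_translations t h with rfl | hc | ⟨a, b, ha, hb, rfl⟩
    · rw [show trA 0 h = 1 from Subtype.ext tr_zero]; exact one_mem _
    · exact h4 t h hc
    · have hsa := sign_tr_even a (by rw [ha])
      have hsb := sign_tr_even b (by rw [hb])
      rw [show trA (a + b) h = trA b hsb * trA a hsa from Subtype.ext (tr_mul b a).symm]
      exact mul_mem (h4 b hsb hb) (h4 a hsa ha)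
  have hsq : ∀ q : Perm (Fin 5), Perm.sign (la q : Perm P11) = 1 := fun q => by
    rw [sign_la, sq, Int.units_mul_self]
  have hla : ∀ q ∈ Subgroup.closure {r | r ∈ (Q : Subgroup (Perm (Fin 5))) ∧ r ^ 2 = 1},
      (⟨la q, Perm.mem_alternatingGroup.2 (hsq q)⟩ : A11) ∈ W := by
    intro q hq
    induction hq using Subgroup.closure_induction with
    | mem r hr =>
      rcases eq_or_ne r 1 with rfl | hne
      · rw [show (⟨la (1 : Perm (Fin 5)), Perm.mem_alternatingGroup.2 (hsq 1)⟩ : A11) = 1 from
          Subtype.ext la_one]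
        exact one_mem _
      · obtain ⟨t, ht4, hs, hc⟩ := involution_products r (by rw [← pow_two]; exact hr.2) hne
        have ht : Perm.sign (tr t : Perm P11) = 1 := by
          refine sign_tr_even t ?_
          rw [card_support_tr] at ht4
          omega
        have hx : trA t ht * ⟨la r, Perm.mem_alternatingGroup.2 (hsq r)⟩ ∈ W :=
          Subgroup.subset_closure ⟨⟨t, r, hr.1, rfl⟩, Subtype.ext hs, hc⟩
        have := mul_mem (inv_mem (htr t ht)) hx
        rwa [inv_mul_cancel_left] at this
    | one =>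
      rw [show (⟨la (1 : Perm (Fin 5)), Perm.mem_alternatingGroup.2 (hsq 1)⟩ : A11) = 1 from
        Subtype.ext la_one]
      exact one_mem _
    | mul a b _ _ ha hb =>
      rw [show (⟨la (a * b), Perm.mem_alternatingGroup.2 (hsq _)⟩ : A11) =
        ⟨la a, Perm.mem_alternatingGroup.2 (hsq a)⟩ * ⟨la b, Perm.mem_alternatingGroup.2 (hsq b)⟩
        from Subtype.ext (la_mul a b).symm]
      exact mul_mem ha hb
    | inv a _ ha =>
      rw [show (⟨la a⁻¹, Perm.mem_alternatingGroup.2 (hsq _)⟩ : A11) =
        (⟨la a, Perm.mem_alternatingGroup.2 (hsq a)⟩ : A11)⁻¹ from Subtype.ext (la_inv a).symm]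
      exact inv_mem ha
  intro x hx
  obtain ⟨t, q, hq, e⟩ := hx
  have e' : (x : Perm P11) = tr t * la q := e
  have ht : Perm.sign (tr t : Perm P11) = 1 := by
    have := congrArg Perm.sign e'
    rwa [Perm.sign_mul, hsq, mul_one, Perm.mem_alternatingGroup.1 x.2, eq_comm] at this
  rw [show x = trA t ht * ⟨la q, Perm.mem_alternatingGroup.2 (hsq q)⟩ from Subtype.ext e']
  exact mul_mem (htr t ht) (hla q (genPrime_sylow (p := 2) Q hq))

/-- a central involution moving eight points has a partner in the subgroup -/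
theorem center_partner {z : A11} (hz : z ∈ U Q) (hc : ∀ u ∈ U Q, u * z = z * u) (h8 : mv z = 8) :
    ∃ e ∈ U Q, e * e = 1 ∧ mv e = 4 ∧ mv (z * e) = 8 := by
  obtain ⟨t, q, hq, e⟩ := hz
  have e' : (z : Perm P11) = tr t * la q := e
  have hq1 : q = 1 := by
    refine eq_one_of_fixes_even q fun s hs i => ?_
    have hsg := sign_tr_even s (by rw [hs])
    have h := congrArg Subtype.val (hc _ (trA_mem_U Q s hsg))
    have h1 : (tr s * (z : Perm P11)) = (z : Perm P11) * tr s := h
    rw [e', ← mul_assoc, tr_mul, mul_assoc,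
      show (la q * tr s : Perm P11) = tr (fun i => s (q⁻¹ i)) * la q by
        rw [← la_conj_tr, inv_mul_cancel_right],
      ← mul_assoc, tr_mul] at h1
    have h2 := congrFun (tr_injective (mul_right_cancel h1)) i
    simp only [Pi.add_apply] at h2
    rw [add_comm (t i)] at h2
    exact (add_right_cancel h2).symm
  rw [hq1, la_one, mul_one] at e'
  have hcard : (Finset.univ.filter fun i => t i ≠ 0).card = 4 := by
    have : (tr t : Perm P11).support.card = 8 := e' ▸ h8
    rw [card_support_tr] at this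
    omega
  obtain ⟨a, ha2, ha4⟩ := central_partner t hcard
  have hsa := sign_tr_even a (by rw [ha2])
  refine ⟨trA a hsa, trA_mem_U Q a hsa, trA_sq a hsa, by rw [mv_trA, ha2], ?_⟩
  show ((z : Perm P11) * tr a).support.card = 8
  rw [e', tr_mul, card_support_tr, ha4]

/-- elements of odd order normalising the Sylow subgroup are trivial -/
theorem eq_one_of_normalizes_U {g : A11} (hg : g ∈ Subgroup.normalizer (U Q : Set A11))
    (ho : Odd (orderOf g)) : g = 1 := by
  refine Subtype.ext (eq_one_of_normalizes_alt (by simp) Q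
    (by rwa [Subgroup.orderOf_coe]) fun y hy hys => ?_)
  exact (Subgroup.mem_normalizer_iff.1 hg ⟨y, Perm.mem_alternatingGroup.2 hys⟩).1 hy

end Cfsg.Agent.Lib.LyFusion62
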