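import Cfsg.Agent.Lib.LyFusion62.AltEleven
import Cfsg.Agent.Lib.Fusion.SimpleSylow
import Cfsg.Agent.Lib.BoundedPresentation.Carmichael
import Cfsg.Prelude.Def_SporadicB

/-!
A group whose Sylow 2-subgroup lies in a centraliser `2.A₁₁` of an involution fused to another
involution of that centraliser has a simple 2-fusion system.
-/

set_option autoImplicit false

namespace Cfsg.Agent.Lib.LyFusion62

open Cfsg.Agent.Lib.Fusion.AltBlocks (eq_one_of_normalizes_alt)
open Cfsg.Agent.Lib.BoundedPresentation (Alt2 cyc carm_cyc exists_hom closure_cyc Carm)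

section Cover

variable {C : Type} [Group C] [Finite C] (π : C →* A11) (τ : C)

/-- the hypotheses on a double cover -/
structure IsCover : Prop where
  surj : Function.Surjective π
  ker : π.ker = Subgroup.zpowers τ
  order : orderOf τ = 2
  central : ∀ g : C, g * τ = τ * g
  nonsplit : ∀ L : Subgroup C, ¬ (Subgroup.zpowers τ).IsComplement' L

variable {π τ}

theorem IsCover.eq_or_eq (H : IsCover π τ) {g h : C} (e : π g = π h) : g = h ∨ g = h * τ := by
  have hm : h⁻¹ * g ∈ π.ker := by
    rw [MonoidHom.mem_ker, map_mul, map_inv, e, inv_mul_cancel]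
  rw [H.ker] at hm
  obtain ⟨k, hk⟩ := Subgroup.mem_zpowers_iff.1 hm
  have h2 : τ ^ (2 : ℤ) = 1 := by
    have := pow_orderOf_eq_one τ
    rwa [H.order, ← zpow_natCast] at this
  rcases Int.emod_two_eq_zero_or_one k with hk2 | hk2
  · left
    rw [← Int.mul_ediv_add_emod k 2, hk2, add_zero, zpow_mul, h2, one_zpow] at hk
    exact (mul_inv_cancel_left h g).symm.trans (by rw [← hk, mul_one])
  · right
    rw [← Int.mul_ediv_add_emod k 2, hk2, zpow_add, zpow_mul, h2, one_zpow, one_mul, zpow_one] at hk
    rw [hk, mul_inv_cancel_left]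

theorem IsCover.tau_sq (H : IsCover π τ) : τ * τ = 1 := by
  have := pow_orderOf_eq_one τ
  rwa [H.order, pow_two] at this

theorem IsCover.mul_tau_sq (H : IsCover π τ) (h : C) : (h * τ) * (h * τ) = h * h := by
  rw [mul_assoc, ← mul_assoc τ, ← H.central, mul_assoc h τ τ, H.tau_sq, mul_one]

theorem IsCover.tau_ne_one (H : IsCover π τ) : τ ≠ 1 := fun h => by
  have := H.order
  rw [h, orderOf_one] at this
  omega

theorem IsCover.sq_eq (H : IsCover π τ) {g h : C} (e : π g = π h) : g * g = h * h := by
  rcases H.eq_or_eq e with rfl | rfl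
  · rfl
  · exact H.mul_tau_sq h

/-- squares of lifts are constant on classes -/
theorem IsCover.sq_eq_of_conj (H : IsCover π τ) {g h : C} (e : IsConj (π g) (π h))
    (hg : g * g = 1) : h * h = 1 := by
  obtain ⟨a, ha⟩ := isConj_iff.1 e
  obtain ⟨b, rfl⟩ := H.surj a
  rw [← H.sq_eq (g := b * g * b⁻¹) (h := h) (by rw [map_mul, map_mul, map_inv, ha])]
  calc b * g * b⁻¹ * (b * g * b⁻¹) = b * (g * g) * b⁻¹ := by group
    _ = 1 := by rw [hg]; group

theorem mul_self_of_involution {x : A11} {y : C} (e : π y = x) (hy : y * y = 1) : x * x = 1 := by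
  rw [← e, ← map_mul, hy, map_one]

/-- a lift of an involution moving four points has square `τ` -/
theorem IsCover.lift_four (H : IsCover π τ) {y : C} (h2 : π y * π y = 1) (h4 : mv (π y) = 4) :
    y * y = τ := by
  by_contra hne
  have hy1 : y * y = 1 := by
    rcases H.eq_or_eq (g := y * y) (h := 1) (by rw [map_mul, map_one, h2]) with e | e
    · exact e
    · exact absurd (by rw [e, one_mul]) hne
  let f : Fin 9 ⊕ Fin 2 ≃ P11 := Fintype.equivOfCardEq rfl
  let e := f.altCongrHom
  have hlift : ∀ i : Fin 9, ∃ x : C, x ^ 3 = 1 ∧ π x = e (cyc i) := by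
    intro i
    obtain ⟨g, hg⟩ := H.surj (e (cyc i))
    have hc : e (cyc i) ^ 3 = 1 := by rw [← map_pow, carm_cyc.cube, map_one]
    refine ⟨g ^ 4, ?_, ?_⟩
    · have h3 : π (g ^ 3) = π 1 := by rw [map_pow, hg, hc, map_one]
      have h6 : g ^ 6 = 1 := by
        have := H.sq_eq h3
        rw [one_mul, ← pow_add] at this
        exact this
      rw [← pow_mul, show 4 * 3 = 6 + 6 by norm_num, pow_add, h6, one_mul]
    · rw [map_pow, hg, pow_succ, hc, one_mul]
  choose X hX3 hXπ using hlift
  have hcarm : Carm X := by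
    refine ⟨hX3, fun i j hij => ?_⟩
    have hpair : (cyc i * cyc j : Alt2 (Fin 9)) ^ 2 = 1 := carm_cyc.pair i j hij
    have hp : π (X i * X j) * π (X i * X j) = 1 := by
      rw [map_mul, hXπ, hXπ, ← map_mul, ← map_mul, ← pow_two, hpair, map_one]
    have hmv : mv (π (X i * X j)) = 4 := by
      have hne1 : π (X i * X j) ≠ 1 := by
        rw [map_mul, hXπ, hXπ, ← map_mul]
        intro h0
        have h1 := congrArg Subtype.val (e.map_eq_one_iff.1 h0)
        have h2 := DFunLike.congr_fun h1 (Sum.inl j)
        simp [Cfsg.Agent.Lib.BoundedPresentation.cycP_inl,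
          Cfsg.Agent.Lib.BoundedPresentation.cycP_A] at h2
      rcases mv_involution hp hne1 with h | h
      · exact h
      · exfalso
        have hsup : ((cyc i * cyc j : Alt2 (Fin 9)) : Equiv.Perm (Fin 9 ⊕ Fin 2)).support.card ≤ 4 := by
          refine (Finset.card_le_card (t := {Sum.inl i, Sum.inl j, Sum.inr 0, Sum.inr 1}) ?_).trans
            Finset.card_le_four
          intro a ha
          rw [Equiv.Perm.mem_support] at ha
          simp only [Finset.mem_insert, Finset.mem_singleton]
          rcases a with k | k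
          · by_contra hc
            push_neg at hc
            apply ha
            rw [Subgroup.coe_mul, Equiv.Perm.mul_apply]
            simp [Cfsg.Agent.Lib.BoundedPresentation.cycP_inl,
              show k ≠ i from fun h => hc.1 (by rw [h]), show k ≠ j from fun h => hc.2.1 (by rw [h])]
          · fin_cases k <;> simp
        rw [map_mul, hXπ, hXπ, ← map_mul] at h
        have : mv (e (cyc i * cyc j)) =
            ((cyc i * cyc j : Alt2 (Fin 9)) : Equiv.Perm (Fin 9 ⊕ Fin 2)).support.card := by
          show (f.permCongr _).support.card = _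
          rw [show f.permCongr ((cyc i * cyc j : Alt2 (Fin 9)) : Equiv.Perm (Fin 9 ⊕ Fin 2)) = _
            from rfl]
          refine Finset.card_bij (fun a _ => f.symm a) ?_ (fun a _ b _ h => f.symm.injective h) ?_
          · intro a ha
            rw [Equiv.Perm.mem_support] at ha ⊢
            intro hc
            exact ha (by rw [Equiv.permCongr_apply, hc, Equiv.apply_symm_apply])
          · intro b hb
            refine ⟨f b, ?_, f.symm_apply_apply b⟩
            rw [Equiv.Perm.mem_support] at hb ⊢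
            rw [Equiv.permCongr_apply, f.symm_apply_apply]
            exact fun h => hb (f.injective h)
        omega
    rw [pow_two]
    exact H.sq_eq_of_conj (g := y) (conj_of_mv h2 hp (h4.trans hmv.symm) (by omega)) hy1
  obtain ⟨φ, hφ⟩ := exists_hom X hcarm
  have hcomp : π.comp φ = e.toMonoidHom :=
    Cfsg.Agent.Lib.BoundedPresentation.alt_hom_ext fun i => by simp [hφ, hXπ]
  have happ : ∀ a, π (φ a) = e a := fun a => DFunLike.congr_fun hcomp a
  refine H.nonsplit φ.range (Subgroup.isComplement'_of_card_mul_and_disjoint ?_ ?_)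
  · have hinj : Function.Injective φ := fun a b hab =>
      e.injective (by rw [← happ, ← happ, hab])
    rw [Nat.card_congr (MonoidHom.ofInjective hinj).toEquiv.symm, Nat.card_congr e.toEquiv,
      Nat.card_zpowers, H.order, Subgroup.card_eq_card_quotient_mul_card_subgroup π.ker,
      Nat.card_congr (QuotientGroup.quotientKerEquivOfSurjective π H.surj).toEquiv, H.ker,
      Nat.card_zpowers, H.order, mul_comm]
  · rw [Subgroup.disjoint_def]
    rintro x hx ⟨a, rfl⟩
    rw [← H.ker, MonoidHom.mem_ker, happ] at hx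
    rw [e.map_eq_one_iff.1 hx, map_one]

/-- an involution of the cover maps to the identity or moves eight points -/
theorem IsCover.involution_mv (H : IsCover π τ) {y : C} (hy : y * y = 1) (hne : π y ≠ 1) :
    mv (π y) = 8 := by
  rcases mv_involution (mul_self_of_involution rfl hy) hne with h | h
  · have := H.lift_four (mul_self_of_involution rfl hy) h
    rw [hy] at this
    exact absurd this.symm H.tau_ne_one
  · exact h

/-- with one involution outside `zpowers τ`, all lifts of involutions moving eight points are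
involutions and conjugate to it -/
theorem IsCover.lift_eight (H : IsCover π τ) {s : C} (hs : s * s = 1) (hs1 : π s ≠ 1) {y : C}
    (h2 : π y * π y = 1) (h8 : mv (π y) = 8) : y * y = 1 ∧ IsConj s y := by
  have hs8 := H.involution_mv hs hs1
  have hp2 : π s * π s = 1 := mul_self_of_involution rfl hs
  refine ⟨H.sq_eq_of_conj (conj_of_mv hp2 h2 (hs8.trans h8.symm) (by omega)) hs, ?_⟩
  have hstau : IsConj s (s * τ) := by
    obtain ⟨x, hx2, hx4, hcomm, hx8⟩ := exists_partner hp2 hs8
    obtain ⟨w, rfl⟩ := H.surj x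
    have hw : w * w = τ := H.lift_four hx2 hx4
    have hsw : s * w * (s * w) = 1 := by
      refine H.sq_eq_of_conj (g := s) (conj_of_mv hp2 ?_ ?_ (by omega)) hs
      · rw [map_mul]
        calc π s * π w * (π s * π w) = π s * (π w * π s) * π w := by group
          _ = π s * (π s * π w) * π w := by rw [hcomm]
          _ = (π s * π s) * (π w * π w) := by group
          _ = 1 := by rw [hp2, hx2, one_mul]
      · rw [map_mul, hs8, hx8]
    refine isConj_iff.2 ⟨w⁻¹, ?_⟩
    have e1 : s * w * s = w⁻¹ := eq_inv_of_mul_eq_one_left (by rw [mul_assoc, hsw])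
    have hsinv : s⁻¹ = s := inv_eq_of_mul_eq_one_right hs
    calc w⁻¹ * s * (w⁻¹)⁻¹ = w⁻¹ * (s * w) := by group
      _ = w⁻¹ * (w⁻¹ * s⁻¹) := by rw [← e1]; group
      _ = (w * w)⁻¹ * s⁻¹ := by group
      _ = τ⁻¹ * s := by rw [hw, hsinv]
      _ = s * τ := by rw [inv_eq_of_mul_eq_one_right H.tau_sq, H.central]
  obtain ⟨a, ha⟩ := isConj_iff.1 (conj_of_mv hp2 h2 (hs8.trans h8.symm) (by omega))
  obtain ⟨b, rfl⟩ := H.surj a
  have hb : IsConj s (b * s * b⁻¹) := isConj_iff.2 ⟨b, rfl⟩
  rcases H.eq_or_eq (g := y) (h := b * s * b⁻¹) (by rw [map_mul, map_mul, map_inv, ha]) with e | e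
  · rw [e]; exact hb
  · rw [e]
    refine hstau.trans (isConj_iff.2 ⟨b, ?_⟩)
    calc b * (s * τ) * b⁻¹ = b * s * (τ * b⁻¹) := by group
      _ = b * s * (b⁻¹ * τ) := by rw [H.central]
      _ = _ := by group

end Cover

/-- the criterion -/
theorem isSimple_of_double_cover {G : Type} [Group G] [Finite G] (t s : G) (ht : orderOf t = 2)
    (hC : Cfsg.IsNonsplitDoubleCover (Subgroup.centralizer ({t} : Set G))
      (alternatingGroup (Fin 11)))
    (h9 : ¬ 2 ^ 9 ∣ Nat.card G) (hs : s * t = t * s) (hs2 : orderOf s = 2) (hst : s ≠ t)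
    (hconj : IsConj t s) (S : Sylow 2 G) :
    (Cfsg.groupFusionSystem (S : Subgroup G)).IsSimple 2 := by
  haveI : Fact (Nat.Prime 2) := ⟨Nat.prime_two⟩
  set C := Subgroup.centralizer ({t} : Set G) with hCdef
  obtain ⟨hcard, ⟨e₀⟩, hns⟩ := hC
  have memC : ∀ {g : G}, g ∈ C ↔ g * t = t * g := fun {g} =>
    Subgroup.mem_centralizer_singleton_iff
  let τ : C := ⟨t, memC.2 rfl⟩
  have hτ : orderOf τ = 2 := by rw [← Subgroup.orderOf_coe]; exact ht
  have hτZ : Subgroup.zpowers τ = Subgroup.center C := by
    refine Subgroup.eq_of_le_of_card_ge ?_ (by rw [hcard, Nat.card_zpowers, hτ])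
    exact Subgroup.zpowers_le.2 (Subgroup.mem_center_iff.2 fun g => Subtype.ext (memC.1 g.2))
  let e₁ := e₀.trans (Fintype.equivOfCardEq (α := Fin 11) (β := P11) rfl).altCongrHom
  let π : C →* A11 := e₁.toMonoidHom.comp (QuotientGroup.mk' (Subgroup.center C))
  have H : IsCover π τ :=
    { surj := e₁.surjective.comp (QuotientGroup.mk'_surjective _)
      ker := by
        rw [hτZ]
        ext g
        show e₁ (QuotientGroup.mk g) = 1 ↔ _
        rw [e₁.map_eq_one_iff, QuotientGroup.eq_one_iff]
      order := hτ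
      central := fun g => Subtype.ext (memC.1 g.2)
      nonsplit := fun L => hτZ ▸ hns L }
  let σ : C := ⟨s, memC.2 hs⟩
  have hσ2 : σ * σ = 1 := Subtype.ext (by
    show s * s = 1
    rw [← pow_two, ← hs2, pow_orderOf_eq_one])
  have hσ1 : π σ ≠ 1 := fun h => by
    rcases H.eq_or_eq (g := σ) (h := 1) (by rw [h, map_one]) with e | e
    · have : s = 1 := congrArg Subtype.val e
      rw [this, orderOf_one] at hs2
      omega
    · exact hst ((congrArg Subtype.val e).trans (one_mul t))
  have fused : ∀ y : C, y * y = 1 → π y ≠ 1 → IsConj t (y : G) := fun y hy hne => by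
    have h := (H.lift_eight hσ2 hσ1 (mul_self_of_involution rfl hy) (H.involution_mv hy hne)).2
    exact hconj.trans (C.subtype.map_isConj h)
  obtain ⟨Q⟩ := (inferInstance : Nonempty (Sylow 2 (Equiv.Perm (Fin 5))))
  let SC : Subgroup C := (U Q).comap π
  have hSC : Nat.card SC = 256 := by
    have h1 : (U Q).index * 128 = 19958400 := by
      rw [← card_U Q, Subgroup.index_mul_card, card_A11]
    have h2 : SC.index = (U Q).index := Subgroup.index_comap_of_surjective _ H.surj
    have h3 : Nat.card C = 19958400 * 2 := by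
      rw [Subgroup.card_eq_card_quotient_mul_card_subgroup π.ker,
        Nat.card_congr (QuotientGroup.quotientKerEquivOfSurjective π H.surj).toEquiv, H.ker,
        Nat.card_zpowers, hτ, card_A11]
    have h4 := SC.index_mul_card
    rw [h2, h3] at h4
    have h5 : (U Q).index = 155925 := by omega
    rw [h5] at h4
    omega
  let S₁ : Subgroup G := SC.map C.subtype
  have hS₁ : Nat.card S₁ = 256 := by
    rw [Subgroup.card_map_of_injective C.subtype_injective, hSC]
  have hfac : (Nat.card G).factorization 2 = 8 := by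
    have hne : Nat.card G ≠ 0 := Nat.card_pos.ne'
    have h8 : 2 ^ 8 ∣ Nat.card G := by
      have := S₁.card_subgroup_dvd_card
      rwa [hS₁] at this
    have a := (Nat.prime_two.pow_dvd_iff_le_factorization hne).1 h8
    have b : ¬ 9 ≤ (Nat.card G).factorization 2 := fun h =>
      h9 ((Nat.prime_two.pow_dvd_iff_le_factorization hne).2 h)
    omega
  let S₀ : Sylow 2 G := Sylow.ofCard S₁ (by rw [hS₁, hfac]; norm_num)
  have hS₀ : (S₀ : Subgroup G) = S₁ := rfl
  have htS : t ∈ S₁ := ⟨τ, show π τ ∈ U Q by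
    rw [(MonoidHom.mem_ker).1 (H.ker.symm ▸ Subgroup.mem_zpowers τ)]; exact one_mem _, rfl⟩
  -- the only central involution is t
  have hcent : ∀ z ∈ S₁, orderOf z = 2 → (∀ u ∈ S₁, u * z = z * u) → z = t := by
    rintro _ ⟨y, hy, rfl⟩ hz2 hcomm
    have hy2 : y * y = 1 := Subtype.ext (by
      show (y : G) * y = 1
      rw [← pow_two]
      have : orderOf (y : G) = 2 := hz2
      rw [← this, pow_orderOf_eq_one])
    by_contra hne
    have hπ1 : π y ≠ 1 := fun h => by
      rcases H.eq_or_eq (g := y) (h := 1) (by rw [h, map_one]) with e | e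
      · have : orderOf (y : G) = 2 := hz2
        rw [e] at this
        simp at this
      · exact hne ((congrArg Subtype.val e).trans (one_mul t))
    have hc' : ∀ u ∈ U Q, u * π y = π y * u := by
      intro u hu
      obtain ⟨w, rfl⟩ := H.surj u
      rw [← map_mul, ← map_mul]
      exact congrArg π (Subtype.ext (hcomm _ ⟨w, hu, rfl⟩))
    obtain ⟨x, hx, hx2, hx4, hx8⟩ := center_partner Q hy hc' (H.involution_mv hy2 hπ1)
    obtain ⟨w, rfl⟩ := H.surj x
    have hw : w * w = τ := H.lift_four hx2 hx4
    have hwy : w * y = y * w := Subtype.ext (hcomm _ ⟨w, hx, rfl⟩)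
    have hpp : π (y * w) * π (y * w) = 1 := by
      rw [← map_mul, show y * w * (y * w) = y * (w * y) * w by group, hwy,
        show y * (y * w) * w = (y * y) * (w * w) by group, hy2, one_mul, hw]
      exact MonoidHom.mem_ker.1 (H.ker.symm ▸ Subgroup.mem_zpowers τ)
    have h1 := (H.lift_eight hσ2 hσ1 hpp (by rw [map_mul]; exact hx8)).1
    rw [show y * w * (y * w) = y * (w * y) * w by group, hwy,
      show y * (y * w) * w = (y * y) * (w * w) by group, hy2, one_mul, hw] at h1
    exact H.tau_ne_one h1
  refine Cfsg.Agent.Lib.Fusion.isSimple_groupFusion_of_sylow S S₀ ?_ ?_ ?_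
  · intro h
    rw [hS₀] at h
    have := h ▸ hS₁
    simp at this
  · intro z hz hz2 hzc T hzT hTle hclosed
    rw [hS₀] at hz hzc hTle hclosed ⊢
    have hzt : z = t := hcent z hz hz2 hzc
    subst hzt
    have hle : U Q ≤ (T.comap C.subtype).map π := by
      refine (U_le_closure Q).trans ((Subgroup.closure_le _).2 ?_)
      rintro x ⟨hxU, hx2, hx8⟩
      obtain ⟨y, rfl⟩ := H.surj x
      have hy := H.lift_eight hσ2 hσ1 hx2 hx8
      have hne : π y ≠ 1 := fun h => by
        rw [h] at hx8
        simp [mv] at hx8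
      obtain ⟨g, hg⟩ := isConj_iff.1 (fused y hy.1 hne)
      exact ⟨y, by
        show (y : G) ∈ T
        rw [← hg]
        exact hclosed g _ hzT (hg ▸ ⟨y, hxU, rfl⟩), rfl⟩
    rintro _ ⟨y, hy, rfl⟩
    obtain ⟨y', hy', e⟩ := hle hy
    rcases H.eq_or_eq e.symm with e' | e'
    · rw [e']; exact hy'
    · rw [e']
      exact T.mul_mem hy' hzT
  · intro g hg hco
    rw [hS₀] at hg ⊢
    have hgt : g * t = t * g := by
      have h1 : g * t * g⁻¹ ∈ S₁ := (Subgroup.mem_normalizer_iff.1 hg t).1 htS
      have h2 := hcent _ h1 (by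
        have : SemiconjBy g t (g * t * g⁻¹) := by simp [SemiconjBy, mul_assoc]
        rw [← this.orderOf_eq, ht]) (by
        rintro u hu
        have hu' : g⁻¹ * u * g ∈ S₁ := (Subgroup.mem_normalizer_iff''.1 hg u).1 hu
        obtain ⟨w, -, hw⟩ := hu'
        have hcw : (g⁻¹ * u * g) * t = t * (g⁻¹ * u * g) := hw ▸ memC.1 w.2
        calc u * (g * t * g⁻¹) = g * ((g⁻¹ * u * g) * t) * g⁻¹ := by group
          _ = g * (t * (g⁻¹ * u * g)) * g⁻¹ := by rw [hcw]
          _ = g * t * g⁻¹ * u := by group)
      exact mul_inv_eq_iff_eq_mul.1 h2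
    have hodd : Odd (orderOf g) := by
      rw [Nat.odd_iff]
      by_contra h
      have h2 : 2 ∣ orderOf g := by omega
      exact absurd (Nat.Coprime.eq_one_of_dvd (Nat.Coprime.symm hco) h2) (by norm_num)
    let γ : C := ⟨g, memC.2 hgt⟩
    have hγ : π γ = 1 := by
      refine eq_one_of_normalizes_U Q ?_ (hodd.of_dvd_nat ((orderOf_map_dvd π γ).trans
        (by rw [← Subgroup.orderOf_coe])))
      rw [Subgroup.mem_normalizer_iff]
      intro u
      obtain ⟨w, rfl⟩ := H.surj u
      have key : ∀ v : C, π v ∈ U Q ↔ (v : G) ∈ S₁ := fun v =>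
        ⟨fun h => ⟨v, h, rfl⟩, fun ⟨v', hv', e⟩ => (Subtype.ext e : v' = v) ▸ hv'⟩
      rw [← map_inv, ← map_mul, ← map_mul, key, key]
      exact Subgroup.mem_normalizer_iff.1 hg w
    have hg1 : g = 1 := by
      rcases H.eq_or_eq (g := γ) (h := 1) (by rw [hγ, map_one]) with e | e
      · exact congrArg Subtype.val e
      · exfalso
        rw [show g = t from (congrArg Subtype.val e).trans (one_mul t), ht] at hodd
        exact absurd hodd (by decide)
    rw [hg1]
    exact one_mem _

end Cfsg.Agent.Lib.LyFusion62
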