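import Cfsg.Agent.Lib.LyFusion62.Cover
import Cfsg.Agent.Lib.LyCent69.FromCtx
import Cfsg.Agent.Lib.LyMain.Ly
import Cfsg.Agent.Lib.LyMain.HSimple
import Cfsg.Agent.Lib.Fusion.GroupTransport

/-!
The 2-fusion system of the Lyons group is simple, given the centraliser `2.A₁₁` of its involution.
-/

set_option autoImplicit false

namespace Cfsg.Agent.Lib.LyFusion62

open Cfsg Cfsg.Spor
open Cfsg.Agent.Lib.LyDC (rep tabs base base_lt)
open Cfsg.Agent.Lib.LyMain (lyPhi)
open Cfsg.Agent.Lib.LyCent69 (tBar tWord tBar_mul_self tBar_ne_one)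

/-- a conjugating word -/
def kWord : List Nat := [0x585815864]

/-- its inverse -/
def kInv : List Nat := [0x357627676]

theorem k_checks : tabs.same base (kWord ++ kInv) [] = true ∧
    tabs.same base (kInv ++ tWord ++ kWord ++ tWord) (tWord ++ (kInv ++ tWord ++ kWord)) = true ∧
      tabs.same base (kInv ++ tWord ++ kWord) tWord = false := by
  decide +kernel

/-- the fusion system, given the centraliser -/
theorem isSimple_ly
    (hC : IsNonsplitDoubleCover (Subgroup.centralizer ({lyPhi tBar} : Set Ly))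
      (alternatingGroup (Fin 11)))
    {G : Type*} [Group G] [Finite G] (hG : Spor.IsoLy G) (S : Sylow 2 G) :
    (groupFusionSystem (S : Subgroup G)).IsSimple 2 := by
  haveI : Fact (Nat.Prime 2) := ⟨Nat.prime_two⟩
  have := LyMain.ly_finite
  obtain ⟨f⟩ := hG
  refine Fusion.GroupTransport.isSimple_of_mulEquiv f.symm (fun S' => ?_) S
  have hs := LyMain.hbar_simple
  have hinj := LyMain.lyPhi_injective hs
  have hI := LyDC.baseInj
  obtain ⟨hk, hcomm, hne⟩ := k_checks
  have hki : rep.ev kInv = (rep.ev kWord)⁻¹ := by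
    refine eq_inv_of_mul_eq_one_right ?_
    rw [← rep.ev_append, rep.eq_of_same base_lt hI hk, rep.ev_nil]
  have hT : orderOf tBar = 2 :=
    orderOf_eq_prime (by rw [pow_two]; exact tBar_mul_self hI) (tBar_ne_one hI)
  set u := rep.ev (kInv ++ tWord ++ kWord) with hu
  have hconj : IsConj tBar u := isConj_iff.2 ⟨(rep.ev kWord)⁻¹, by
    rw [inv_inv, hu, rep.ev_append, rep.ev_append, hki]; rfl⟩
  have hcomm' : u * tBar = tBar * u := by
    have h := rep.eq_of_same base_lt hI hcomm
    rwa [rep.ev_append, rep.ev_append tWord] at h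
  have hne' : u ≠ tBar := fun h => by
    have h' : tabs.same base (kInv ++ tWord ++ kWord) tWord = true := (rep.same_iff base_lt hI).2 h
    rw [hne] at h'
    exact Bool.noConfusion h'
  refine isSimple_of_double_cover (lyPhi tBar) (lyPhi u)
    (by rw [orderOf_injective lyPhi hinj, hT]) hC (by rw [LyMain.ly_card hs]; norm_num)
    (by rw [← map_mul, ← map_mul, hcomm']) ?_ (fun h => hne' (hinj h))
    (lyPhi.map_isConj hconj) S'
  rw [orderOf_injective lyPhi hinj]
  obtain ⟨g, hg⟩ := isConj_iff.1 hconj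
  rw [← hg]
  have : SemiconjBy g tBar (g * tBar * g⁻¹) := by simp [SemiconjBy, mul_assoc]
  rw [← this.orderOf_eq, hT]

end Cfsg.Agent.Lib.LyFusion62
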